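import Groth.Prelude.Def_ExtPow2
import Groth.Agent.Canon15.TopDiff
import Groth.Agent.Coherent.TensorBasis
import Groth.Agent.CAlgH3.LocFreeFactor
import Groth.Agent.AmpleLib.Power
import Groth.Agent.Frob15.FrobLiftForms
import Mathlib.LinearAlgebra.Matrix.Kronecker

/-!
# The determinant of a tensor product of locally free modules

Both sides are invertible with generators coming from local frames; the transition functions agree because
`det (A ⊗ B) = det A ^ f * det B ^ e`.
-/

set_option autoImplicit false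
set_option linter.style.haveILetI false
set_option backward.isDefEq.respectTransparency false
set_option maxHeartbeats 1000000

universe u

open CategoryTheory CategoryTheory.Limits AlgebraicGeometry Opposite TopologicalSpace
open Groth.Agent Groth.Agent.Coherent Groth.Agent.PicLib Groth.Agent.AmpleLib
open scoped Kronecker

noncomputable section

namespace Groth.Agent.DetTens29

variable {X : Scheme.{u}}

/-- A family indexed by `Fin n` frees the module on `U`. -/
abbrev IsFrameOn {n : ℕ} (N : X.Modules) (U : X.Opens) (a : Fin n → Γ(N, U)) : Prop :=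
  IsBasisOn N U (fun i : ULift.{u} (Fin n) => a i.down)

section

variable {n : ℕ} {N L : X.Modules}
  (φ : ∀ U : X.affineOpens, (L.val.obj (op U.1)) ≃ₗ[Γ(X, U.1)] ↥(⋀[Γ(X, U.1)]^n (N.val.obj (op U.1))))

/-- The wedge of sections. -/
def wdg (U : X.affineOpens) (a : Fin n → Γ(N, U.1)) : Γ(L, U.1) :=
  (φ U).symm (exteriorPower.ιMulti Γ(X, U.1) n (M := N.val.obj (op U.1)) a)

theorem wdg_change (U : X.affineOpens) (a a' : Fin n → Γ(N, U.1)) (A : Matrix (Fin n) (Fin n) Γ(X, U.1))
    (h : ∀ i, a i = ∑ j, A i j • a' j) : wdg φ U a = A.det • wdg φ U a' := by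
  have h0 := Frob15.alternating_sum_smul (exteriorPower.ιMulti Γ(X, U.1) n (M := N.val.obj (op U.1))) A
    (fun j => (show N.val.obj (op U.1) from a' j))
  have h1 : (φ U).symm (exteriorPower.ιMulti Γ(X, U.1) n (M := N.val.obj (op U.1))
      (fun i => ∑ j, A i j • (show N.val.obj (op U.1) from a' j))) =
      A.det • (φ U).symm (exteriorPower.ιMulti Γ(X, U.1) n (M := N.val.obj (op U.1)) a') := by
    rw [h0]; exact (φ U).symm.map_smul _ _
  exact (congrArg (wdg φ U) (funext h)).trans h1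

variable (hφ : ∀ (U V : X.affineOpens) (h : V.1 ≤ U.1) (e : Fin n → N.val.obj (op U.1)),
      L.val.map (homOfLE h).op ((φ U).symm (exteriorPower.ιMulti _ n e)) =
        (φ V).symm (exteriorPower.ιMulti _ n (fun j => N.val.map (homOfLE h).op (e j))))

include hφ

theorem resM_wdg (U V : X.affineOpens) (h : V.1 ≤ U.1) (a : Fin n → Γ(N, U.1)) :
    resM L h (wdg φ U a) = wdg φ V fun i => resM N h (a i) :=
  hφ U V h a

theorem isGen_wdg (U : X.affineOpens) (a : Fin n → Γ(N, U.1)) (ha : IsFrameOn N U.1 a) :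
    IsGen L U.1 (wdg φ U a) := by
  classical
  refine Lift15.isGen_of_affine _ fun V hV h => ?_
  let e' : Fin n → N.val.obj (op V) := fun i => resM N h (a i)
  let T : (Fin n → Γ(X, V)) →ₗ[Γ(X, V)] N.val.obj (op V) := Fintype.linearCombination Γ(X, V) e'
  have hT : Function.Bijective T := by
    have key : ⇑T = (fun c : ULift.{u} (Fin n) → Γ(X, V) => ∑ i, c i • resM N h (a i.down)) ∘
        fun c i => c i.down := funext fun c => by
      show ∑ i, c i • e' i = ∑ i : ULift.{u} (Fin n), c i.down • resM N h (a i.down)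
      exact Fintype.sum_equiv Equiv.ulift.symm _ _ fun i => rfl
    rw [key]
    exact (ha h).comp (Equiv.arrowCongr Equiv.ulift.symm (Equiv.refl _)).bijective
  let b : Module.Basis (Fin n) Γ(X, V) (N.val.obj (op V)) :=
    Module.Basis.ofEquivFun (LinearEquiv.ofBijective T hT).symm
  have hb : ⇑b = e' := funext fun i => by
    simp [b, T, Fintype.linearCombination_apply, Module.Basis.coe_ofEquivFun, LinearEquiv.ofBijective_apply,
      Pi.single_apply, ite_smul]
  have hbij := Frob15.bijective_smul_ιMulti b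
  rw [hb] at hbij
  have hcomp := (φ ⟨V, hV⟩).symm.bijective.comp hbij
  have key : (fun r : Γ(X, V) => r • resM L h (wdg φ U a)) =
      ⇑(φ ⟨V, hV⟩).symm ∘ (fun r : Γ(X, V) => r • exteriorPower.ιMulti Γ(X, V) n e') := funext fun r => by
    rw [show resM L h (wdg φ U a) = (φ ⟨V, hV⟩).symm (exteriorPower.ιMulti _ n e') from
      hφ U ⟨V, hV⟩ h a]
    exact ((φ ⟨V, hV⟩).symm.map_smul r _).symm
  rw [key]
  exact hcomp

end

/-- The coefficients of one family in a frame. -/
theorem exists_matrix {n : ℕ} {N : X.Modules} {U : X.Opens} {a' : Fin n → Γ(N, U)} (ha' : IsFrameOn N U a')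
    (a : Fin n → Γ(N, U)) : ∃ A : Matrix (Fin n) (Fin n) Γ(X, U), ∀ i, a i = ∑ j, A i j • a' j := by
  refine ⟨Matrix.of fun i j => ha'.coef le_rfl (a i) ⟨j⟩, fun i => ?_⟩
  conv_lhs => rw [← ha'.coef_spec le_rfl (a i)]
  simp only [resM_self]
  exact Fintype.sum_equiv Equiv.ulift _ _ fun c => rfl

theorem isFrameOn_res {n : ℕ} {N : X.Modules} {U V : X.Opens} (h : V ≤ U) {a : Fin n → Γ(N, U)}
    (ha : IsFrameOn N U a) : IsFrameOn N V fun i => resM N h (a i) := by
  intro W hW
  convert ha (hW.trans h) using 2 with c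
  exact Finset.sum_congr rfl fun i _ => by rw [resM_resM]

section

variable {E F : X.Modules} {e f : ℕ} {U : X.Opens}

/-- The products of two families. -/
def tens (a : Fin e → Γ(E, U)) (b : Fin f → Γ(F, U)) (k : Fin (e * f)) : Γ(CohB1.tensorMod E F, U) :=
  tmul (a (finProdFinEquiv.symm k).1) (b (finProdFinEquiv.symm k).2)

theorem isFrameOn_tens {a : Fin e → Γ(E, U)} {b : Fin f → Γ(F, U)} (ha : IsFrameOn E U a)
    (hb : IsFrameOn F U b) : IsFrameOn (CohB1.tensorMod E F) U (tens a b) := by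
  intro V hV
  have h1 := bijective_sum_tmul ha F V hV
  have h2 : Function.Bijective fun (c : ULift.{u} (Fin e) → ULift.{u} (Fin f) → Γ(X, V)) (i : ULift.{u} (Fin e)) =>
      ∑ j, c i j • resM F hV (b j.down) := Function.Bijective.piMap fun _ => hb hV
  let σ : (ULift.{u} (Fin (e * f)) → Γ(X, V)) ≃ (ULift.{u} (Fin e) → ULift.{u} (Fin f) → Γ(X, V)) :=
    { toFun := fun c i j => c ⟨finProdFinEquiv (i.down, j.down)⟩
      invFun := fun c k => c ⟨(finProdFinEquiv.symm k.down).1⟩ ⟨(finProdFinEquiv.symm k.down).2⟩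
      left_inv := fun c => funext fun k => congrArg (fun z => c (ULift.up z)) (finProdFinEquiv.apply_symm_apply k.down)
      right_inv := fun c => funext fun i => funext fun j => by
        show c ⟨(finProdFinEquiv.symm (finProdFinEquiv (i.down, j.down))).1⟩ ⟨(finProdFinEquiv.symm (finProdFinEquiv (i.down, j.down))).2⟩ = c i j
        rw [Equiv.symm_apply_apply] }
  convert (h1.comp h2).comp σ.bijective using 1
  funext c
  show ∑ k, c k • resM _ hV (tens a b k.down) =
    ∑ i : ULift.{u} (Fin e), tmul (resM E hV (a i.down)) (∑ j : ULift.{u} (Fin f), c ⟨finProdFinEquiv (i.down, j.down)⟩ • resM F hV (b j.down))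
  have hsum : ∀ (x : Γ(E, V)) (g : ULift.{u} (Fin f) → Γ(F, V)), tmul x (∑ j, g j) = ∑ j, tmul x (g j) :=
    fun x g => map_sum (AddMonoidHom.mk' (fun y : Γ(F, V) => tmul x y) (tmul_add_right x)) g Finset.univ
  simp only [hsum, tmul_smul_right]
  rw [← Fintype.sum_prod_type' (fun (i : ULift.{u} (Fin e)) (j : ULift.{u} (Fin f)) =>
    c ⟨finProdFinEquiv (i.down, j.down)⟩ • tmul (resM E hV (a i.down)) (resM F hV (b j.down)))]
  refine Fintype.sum_equiv (Equiv.ulift.trans (finProdFinEquiv.symm.trans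
    (Equiv.prodCongr Equiv.ulift.symm Equiv.ulift.symm))) _ _ fun k => ?_
  show c k • resM _ hV (tens a b k.down) = c ⟨finProdFinEquiv (finProdFinEquiv.symm k.down)⟩ • _
  rw [Equiv.apply_symm_apply, tens, resM_tmul]
  rfl

theorem tens_change {a a' : Fin e → Γ(E, U)} {b b' : Fin f → Γ(F, U)}
    {A : Matrix (Fin e) (Fin e) Γ(X, U)} {B : Matrix (Fin f) (Fin f) Γ(X, U)}
    (hA : ∀ i, a i = ∑ j, A i j • a' j) (hB : ∀ i, b i = ∑ j, B i j • b' j) (k : Fin (e * f)) :
    tens a b k = ∑ l, (A ⊗ₖ B).submatrix finProdFinEquiv.symm finProdFinEquiv.symm k l • tens a' b' l := by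
  have hl : ∀ (g : Fin e → Γ(E, U)) (y : Γ(F, U)), tmul (∑ i, g i) y = ∑ i, tmul (g i) y :=
    fun g y => map_sum (AddMonoidHom.mk' (fun x : Γ(E, U) => tmul x y) (fun x x' => tmul_add_left x x' y)) g Finset.univ
  have hr : ∀ (x : Γ(E, U)) (g : Fin f → Γ(F, U)), tmul x (∑ j, g j) = ∑ j, tmul x (g j) :=
    fun x g => map_sum (AddMonoidHom.mk' (fun y : Γ(F, U) => tmul x y) (tmul_add_right x)) g Finset.univ
  unfold tens
  rw [hA, hB, hl]
  simp only [hr, tmul_smul_smul]
  rw [← Fintype.sum_prod_type' (fun i j =>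
    (A (finProdFinEquiv.symm k).1 i * B (finProdFinEquiv.symm k).2 j) • tmul (a' i) (b' j))]
  exact Fintype.sum_equiv finProdFinEquiv _ _ fun p => by simp [Matrix.kroneckerMap_apply]

end

/-- `det (E ⊗ F) ≅ (det E)^f ⊗ (det F)^e`. -/
theorem nonempty_iso {E F DE DF D : X.Modules} {e f : ℕ} (hE : FlatMod.IsFinLocFreeOfRank e E)
    (hF : FlatMod.IsFinLocFreeOfRank f F) (hDE : ExtPow.IsExtPow e E DE) (hDF : ExtPow.IsExtPow f F DF)
    (hD : ExtPow.IsExtPow (e * f) (CohB1.tensorMod E F) D) :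
    Nonempty (D ≅ CohB1.tensorMod (CohB1.tensorPow DE f) (CohB1.tensorPow DF e)) := by
  classical
  obtain ⟨φE, hφE⟩ := hDE
  obtain ⟨φF, hφF⟩ := hDF
  obtain ⟨φD, hφD⟩ := hD
  let J : Type u := Σ V : X.affineOpens,
    {a : (Fin e → Γ(E, V.1)) × (Fin f → Γ(F, V.1)) // IsFrameOn E V.1 a.1 ∧ IsFrameOn F V.1 a.2}
  have hcov : iSup (fun i : J => i.1.1) = ⊤ := top_le_iff.1 fun y _ => by
    obtain ⟨U₁, a, hy₁, ha⟩ := Canon15.exists_isBasisOn_rank hE y
    obtain ⟨U₂, b, hy₂, hb⟩ := Canon15.exists_isBasisOn_rank hF y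
    obtain ⟨V, hV, hyV, hle⟩ := Opens.isBasis_iff_nbhd.mp X.isBasis_affineOpens (show y ∈ U₁ ⊓ U₂ from ⟨hy₁, hy₂⟩)
    exact Opens.mem_iSup.2 ⟨⟨⟨V, hV⟩,
      (fun i => resM E (hle.trans inf_le_left) (a ⟨i⟩), fun i => resM F (hle.trans inf_le_right) (b ⟨i⟩)),
      CAlgH3.LocFreeFactor.IsBasisOn.mono ha _, CAlgH3.LocFreeFactor.IsBasisOn.mono hb _⟩, hyV⟩
  let s : ∀ i : J, Γ(D, i.1.1) := fun i => wdg φD i.1 (tens i.2.1.1 i.2.1.2)
  let t : ∀ i : J, Γ(CohB1.tensorMod (CohB1.tensorPow DE f) (CohB1.tensorPow DF e), i.1.1) := fun i =>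
    tmul (powSec (wdg φE i.1 i.2.1.1) f) (powSec (wdg φF i.1 i.2.1.2) e)
  have hs : ∀ i, IsGen D i.1.1 (s i) := fun i =>
    isGen_wdg φD hφD _ _ (isFrameOn_tens i.2.2.1 i.2.2.2)
  have ht : ∀ i, IsGen _ i.1.1 (t i) := fun i =>
    isGen_tmul (isGen_powSec (isGen_wdg φE hφE _ _ i.2.2.1) f) (isGen_powSec (isGen_wdg φF hφF _ _ i.2.2.2) e)
  obtain ⟨ψ, -⟩ := exists_iso_of_gens (fun i : J => i.1.1) hcov s hs t ht (fun i j W hi hj c hc => by
    refine sec_ext _ _ _ fun y hy => ?_
    obtain ⟨V, hV, hyV, hle⟩ := Opens.isBasis_iff_nbhd.mp X.isBasis_affineOpens hy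
    refine ⟨V, hle, hyV, ?_⟩
    let V' : X.affineOpens := ⟨V, hV⟩
    let a := fun k => resM E (hle.trans hi) (i.2.1.1 k)
    let a' := fun k => resM E (hle.trans hj) (j.2.1.1 k)
    let b := fun k => resM F (hle.trans hi) (i.2.1.2 k)
    let b' := fun k => resM F (hle.trans hj) (j.2.1.2 k)
    obtain ⟨A, hA⟩ := exists_matrix (a' := a') (isFrameOn_res (hle.trans hj) j.2.2.1) a
    obtain ⟨B, hB⟩ := exists_matrix (a' := b') (isFrameOn_res (hle.trans hj) j.2.2.2) b
    have htens : ∀ (k : J) (hk : V ≤ k.1.1), (fun l => resM _ hk (tens k.2.1.1 k.2.1.2 l)) =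
        tens (fun l => resM E hk (k.2.1.1 l)) (fun l => resM F hk (k.2.1.2 l)) := fun k hk =>
      funext fun l => resM_tmul hk _ _
    let r : Γ(X, V) := A.det ^ f * B.det ^ e
    have e1 : resM D (hle.trans hi) (s i) = r • resM D (hle.trans hj) (s j) := by
      rw [resM_wdg φD hφD i.1 V', resM_wdg φD hφD j.1 V', htens, htens,
        wdg_change φD V' _ _ _ (tens_change hA hB)]
      rw [Matrix.det_submatrix_equiv_self, Matrix.det_kronecker, Fintype.card_fin, Fintype.card_fin]
    have e2 : resM _ (hle.trans hi) (t i) = r • resM _ (hle.trans hj) (t j) := by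
      simp only [t, resM_tmul, resM_powSec]
      rw [resM_wdg φE hφE i.1 V', resM_wdg φE hφE j.1 V', resM_wdg φF hφF i.1 V', resM_wdg φF hφF j.1 V',
        wdg_change φE V' _ _ A hA, wdg_change φF V' _ _ B hB, powSec_smul, powSec_smul, tmul_smul_smul]
    have e3 : PicLib.res hle c = r := by
      have h0 := congrArg (resM D hle) hc
      rw [resM_smul, resM_resM, resM_resM, e1] at h0
      exact ((hs j V (hle.trans hj)).1 h0).symm
    rw [resM_smul, resM_resM, resM_resM, e2, ← e3])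
  exact ⟨ψ⟩

end Groth.Agent.DetTens29
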